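import Cfsg.Agent.Spor.HNb.D0

set_option autoImplicit false
set_option maxRecDepth 100000000
set_option Elab.async false

namespace Cfsg.Agent.Spor.HNb

theorem ok0 : Net.okb 8 n0 = true := by decide +kernel

theorem ok1 : Net.okb 8 n1 = true := by decide +kernel

theorem ok2 : Net.okb 8 n2 = true := by decide +kernel

theorem rel0 : T.rel 8 [1, 1, 1, 1, 1, 1] 0 8 = true := by decide +kernel

theorem rel1 : T.rel 8 [2, 2] 0 8 = true := by decide +kernel

theorem rel2 : T.rel 8 [6, 2, 3, 1, 1, 6, 2, 3, 1, 1, 6, 2, 3, 1, 1] 0 8 = true := by decide +kernel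

theorem rel3 : T.rel 8 [2, 3, 1, 2, 3, 1, 2, 3, 1, 2, 3, 1] 0 8 = true := by decide +kernel

theorem rel4 : T.rel 8 [4, 3, 1, 3] 0 8 = true := by decide +kernel

theorem rel5 : T.rel 8 [5, 3, 2, 3] 0 8 = true := by decide +kernel

theorem rel6 : T.rel 8 [3, 3] 0 8 = true := by decide +kernel

theorem hcov : T.treeCov (ones 240) L 1 = true := by decide +kernel

theorem hg : lall (fun z => band (memL L z) (band (sub (ones 240) (T.let z).cl) (T.closed (ones 240) z))) gs = true := by decide +kernel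

theorem rot1_1 : T.rot 1 [4] (sel (ones 240) ip1 1) = true := by decide +kernel

theorem rot1_1r : band (Rule.ok (2 * 0) EX RL ⟨1 :: [4], [], 7, false⟩) (lall (memL L) [4]) = true := by decide +kernel

theorem rot1_2 : T.rot 1 [3, 4, 3] (sel (ones 240) ip1 2) = true := by decide +kernel

theorem rot1_2r : band (Rule.ok (2 * 0) EX RL ⟨1 :: [3, 4, 3], [4, 0], 4, true⟩) (lall (memL L) [3, 4, 3]) = true := by decide +kernel

theorem rot1_3 : T.rot 1 [6, 4, 6] (sel (ones 240) ip1 3) = true := by decide +kernel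

theorem rot1_3r : band (Rule.ok (2 * 0) EX RL ⟨1 :: [6, 4, 6], [0], 4, false⟩) (lall (memL L) [6, 4, 6]) = true := by decide +kernel

theorem rot1_4 : T.rot 1 [1, 1, 1, 1, 1] (sel (ones 240) ip1 4) = true := by decide +kernel

theorem rot1_4r : band (Rule.ok (2 * 0) EX RL ⟨1 :: [1, 1, 1, 1, 1], [], 0, true⟩) (lall (memL L) [1, 1, 1, 1, 1]) = true := by decide +kernel

theorem rot1_5 : T.rot 1 [2, 3, 1, 2, 3, 1, 2, 3, 1, 2, 3] (sel (ones 240) ip1 5) = true := by decide +kernel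

theorem rot1_5r : band (Rule.ok (2 * 0) EX RL ⟨1 :: [2, 3, 1, 2, 3, 1, 2, 3, 1, 2, 3], [0], 3, true⟩) (lall (memL L) [2, 3, 1, 2, 3, 1, 2, 3, 1, 2, 3]) = true := by decide +kernel

theorem rot1_6 : T.rot 1 [1, 6, 2, 3, 1, 1, 6, 2, 3, 1, 1, 6, 2, 3] (sel (ones 240) ip1 6) = true := by decide +kernel

theorem rot1_6r : band (Rule.ok (2 * 0) EX RL ⟨1 :: [1, 6, 2, 3, 1, 1, 6, 2, 3, 1, 1, 6, 2, 3], [0, 0], 2, true⟩) (lall (memL L) [1, 6, 2, 3, 1, 1, 6, 2, 3, 1, 1, 6, 2, 3]) = true := by decide +kernel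

theorem rot1_7 : T.rot 1 [6, 2, 3, 1, 1, 6, 2, 3, 1, 1, 6, 2, 3, 1] (sel (ones 240) ip1 7) = true := by decide +kernel

theorem rot1_7r : band (Rule.ok (2 * 0) EX RL ⟨1 :: [6, 2, 3, 1, 1, 6, 2, 3, 1, 1, 6, 2, 3, 1], [0], 2, true⟩) (lall (memL L) [6, 2, 3, 1, 1, 6, 2, 3, 1, 1, 6, 2, 3, 1]) = true := by decide +kernel

theorem cov1 : T.cover 1 [(sel (ones 240) ip1 1), (sel (ones 240) ip1 2), (sel (ones 240) ip1 3), (sel (ones 240) ip1 4), (sel (ones 240) ip1 5), (sel (ones 240) ip1 6), (sel (ones 240) ip1 7)] = true := by decide +kernel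

theorem tl1 : T.treeLt 8 1 = true := by decide +kernel

theorem rot2_1 : T.rot 2 [5] (sel (ones 240) ip2 1) = true := by decide +kernel

theorem rot2_1r : band (Rule.ok (2 * 0) EX RL ⟨2 :: [5], [], 7, false⟩) (lall (memL L) [5]) = true := by decide +kernel

theorem rot2_2 : T.rot 2 [2] (sel (ones 240) ip2 2) = true := by decide +kernel

theorem rot2_2r : band (Rule.ok (2 * 0) EX RL ⟨2 :: [2], [], 1, true⟩) (lall (memL L) [2]) = true := by decide +kernel

theorem rot2_3 : T.rot 2 [3, 5, 3] (sel (ones 240) ip2 3) = true := by decide +kernel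

theorem rot2_3r : band (Rule.ok (2 * 0) EX RL ⟨2 :: [3, 5, 3], [4, 2], 5, true⟩) (lall (memL L) [3, 5, 3]) = true := by decide +kernel

theorem rot2_4 : T.rot 2 [6, 5, 6] (sel (ones 240) ip2 4) = true := by decide +kernel

theorem rot2_4r : band (Rule.ok (2 * 0) EX RL ⟨2 :: [6, 5, 6], [2], 5, false⟩) (lall (memL L) [6, 5, 6]) = true := by decide +kernel

theorem rot2_5 : T.rot 2 [3, 1, 2, 3, 1, 2, 3, 1, 2, 3, 1] (sel (ones 240) ip2 5) = true := by decide +kernel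

theorem rot2_5r : band (Rule.ok (2 * 0) EX RL ⟨2 :: [3, 1, 2, 3, 1, 2, 3, 1, 2, 3, 1], [], 3, true⟩) (lall (memL L) [3, 1, 2, 3, 1, 2, 3, 1, 2, 3, 1]) = true := by decide +kernel

theorem rot2_6 : T.rot 2 [3, 1, 1, 6, 2, 3, 1, 1, 6, 2, 3, 1, 1, 6] (sel (ones 240) ip2 6) = true := by decide +kernel

theorem rot2_6r : band (Rule.ok (2 * 0) EX RL ⟨2 :: [3, 1, 1, 6, 2, 3, 1, 1, 6, 2, 3, 1, 1, 6], [4], 2, true⟩) (lall (memL L) [3, 1, 1, 6, 2, 3, 1, 1, 6, 2, 3, 1, 1, 6]) = true := by decide +kernel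

theorem cov2 : T.cover 2 [(sel (ones 240) ip2 1), (sel (ones 240) ip2 2), (sel (ones 240) ip2 3), (sel (ones 240) ip2 4), (sel (ones 240) ip2 5), (sel (ones 240) ip2 6)] = true := by decide +kernel

theorem tl2 : T.treeLt 8 2 = true := by decide +kernel

theorem rot3_1 : T.rot 3 [3] (sel (ones 240) ip3 1) = true := by decide +kernel

theorem rot3_1r : band (Rule.ok (2 * 0) EX RL ⟨3 :: [3], [], 6, true⟩) (lall (memL L) [3]) = true := by decide +kernel

theorem rot3_2 : T.rot 3 [1, 3, 4] (sel (ones 240) ip3 2) = true := by decide +kernel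

theorem rot3_2r : band (Rule.ok (2 * 0) EX RL ⟨3 :: [1, 3, 4], [0], 4, true⟩) (lall (memL L) [1, 3, 4]) = true := by decide +kernel

theorem rot3_3 : T.rot 3 [4, 3, 1] (sel (ones 240) ip3 3) = true := by decide +kernel

theorem rot3_3r : band (Rule.ok (2 * 0) EX RL ⟨3 :: [4, 3, 1], [4], 4, true⟩) (lall (memL L) [4, 3, 1]) = true := by decide +kernel

theorem rot3_4 : T.rot 3 [5, 3, 2] (sel (ones 240) ip3 4) = true := by decide +kernel

theorem rot3_4r : band (Rule.ok (2 * 0) EX RL ⟨3 :: [5, 3, 2], [4], 5, true⟩) (lall (memL L) [5, 3, 2]) = true := by decide +kernel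

theorem cov3 : T.cover 3 [(sel (ones 240) ip3 1), (sel (ones 240) ip3 2), (sel (ones 240) ip3 3), (sel (ones 240) ip3 4)] = true := by decide +kernel

theorem tl3 : T.treeLt 8 3 = true := by decide +kernel

theorem rot4_1 : T.rot 4 [1] (sel (ones 240) ip4 1) = true := by decide +kernel

theorem rot4_1r : band (Rule.ok (2 * 0) EX RL ⟨4 :: [1], [], 7, false⟩) (lall (memL L) [1]) = true := by decide +kernel

theorem rot4_2 : T.rot 4 [3, 1, 3] (sel (ones 240) ip4 2) = true := by decide +kernel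

theorem rot4_2r : band (Rule.ok (2 * 0) EX RL ⟨4 :: [3, 1, 3], [], 4, true⟩) (lall (memL L) [3, 1, 3]) = true := by decide +kernel

theorem rot4_3 : T.rot 4 [6, 1, 6] (sel (ones 240) ip4 3) = true := by decide +kernel

theorem rot4_3r : band (Rule.ok (2 * 0) EX RL ⟨4 :: [6, 1, 6], [4], 4, false⟩) (lall (memL L) [6, 1, 6]) = true := by decide +kernel

theorem rot4_4 : T.rot 4 [4, 4, 4, 4, 4] (sel (ones 240) ip4 4) = true := by decide +kernel

theorem rot4_4r : band (Rule.ok (2 * 0) EX RL ⟨4 :: [4, 4, 4, 4, 4], [], 0, false⟩) (lall (memL L) [4, 4, 4, 4, 4]) = true := by decide +kernel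

theorem rot4_5 : T.rot 4 [6, 5, 4, 6, 5, 4, 6, 5, 4, 6, 5] (sel (ones 240) ip4 5) = true := by decide +kernel

theorem rot4_5r : band (Rule.ok (2 * 0) EX RL ⟨4 :: [6, 5, 4, 6, 5, 4, 6, 5, 4, 6, 5], [], 3, false⟩) (lall (memL L) [6, 5, 4, 6, 5, 4, 6, 5, 4, 6, 5]) = true := by decide +kernel

theorem rot4_6 : T.rot 4 [4, 6, 5, 3, 4, 4, 6, 5, 3, 4, 4, 6, 5, 3] (sel (ones 240) ip4 6) = true := by decide +kernel

theorem rot4_6r : band (Rule.ok (2 * 0) EX RL ⟨4 :: [4, 6, 5, 3, 4, 4, 6, 5, 3, 4, 4, 6, 5, 3], [], 2, false⟩) (lall (memL L) [4, 6, 5, 3, 4, 4, 6, 5, 3, 4, 4, 6, 5, 3]) = true := by decide +kernel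

theorem rot4_7 : T.rot 4 [6, 5, 3, 4, 4, 6, 5, 3, 4, 4, 6, 5, 3, 4] (sel (ones 240) ip4 7) = true := by decide +kernel

theorem rot4_7r : band (Rule.ok (2 * 0) EX RL ⟨4 :: [6, 5, 3, 4, 4, 6, 5, 3, 4, 4, 6, 5, 3, 4], [0], 2, false⟩) (lall (memL L) [6, 5, 3, 4, 4, 6, 5, 3, 4, 4, 6, 5, 3, 4]) = true := by decide +kernel

theorem cov4 : T.cover 4 [(sel (ones 240) ip4 1), (sel (ones 240) ip4 2), (sel (ones 240) ip4 3), (sel (ones 240) ip4 4), (sel (ones 240) ip4 5), (sel (ones 240) ip4 6), (sel (ones 240) ip4 7)] = true := by decide +kernel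

theorem tl4 : T.treeLt 8 4 = true := by decide +kernel

theorem rot5_1 : T.rot 5 [2] (sel (ones 240) ip5 1) = true := by decide +kernel

theorem rot5_1r : band (Rule.ok (2 * 0) EX RL ⟨5 :: [2], [], 7, false⟩) (lall (memL L) [2]) = true := by decide +kernel

theorem rot5_2 : T.rot 5 [5] (sel (ones 240) ip5 2) = true := by decide +kernel

theorem rot5_2r : band (Rule.ok (2 * 0) EX RL ⟨5 :: [5], [], 1, false⟩) (lall (memL L) [5]) = true := by decide +kernel

theorem rot5_3 : T.rot 5 [3, 2, 3] (sel (ones 240) ip5 3) = true := by decide +kernel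

theorem rot5_3r : band (Rule.ok (2 * 0) EX RL ⟨5 :: [3, 2, 3], [], 5, true⟩) (lall (memL L) [3, 2, 3]) = true := by decide +kernel

theorem rot5_4 : T.rot 5 [6, 2, 6] (sel (ones 240) ip5 4) = true := by decide +kernel

theorem rot5_4r : band (Rule.ok (2 * 0) EX RL ⟨5 :: [6, 2, 6], [4], 5, false⟩) (lall (memL L) [6, 2, 6]) = true := by decide +kernel

theorem rot5_5 : T.rot 5 [4, 6, 5, 4, 6, 5, 4, 6, 5, 4, 6] (sel (ones 240) ip5 5) = true := by decide +kernel

theorem rot5_5r : band (Rule.ok (2 * 0) EX RL ⟨5 :: [4, 6, 5, 4, 6, 5, 4, 6, 5, 4, 6], [3], 3, false⟩) (lall (memL L) [4, 6, 5, 4, 6, 5, 4, 6, 5, 4, 6]) = true := by decide +kernel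

theorem rot5_6 : T.rot 5 [3, 4, 4, 6, 5, 3, 4, 4, 6, 5, 3, 4, 4, 6] (sel (ones 240) ip5 6) = true := by decide +kernel

theorem rot5_6r : band (Rule.ok (2 * 0) EX RL ⟨5 :: [3, 4, 4, 6, 5, 3, 4, 4, 6, 5, 3, 4, 4, 6], [4, 3], 2, false⟩) (lall (memL L) [3, 4, 4, 6, 5, 3, 4, 4, 6, 5, 3, 4, 4, 6]) = true := by decide +kernel

theorem cov5 : T.cover 5 [(sel (ones 240) ip5 1), (sel (ones 240) ip5 2), (sel (ones 240) ip5 3), (sel (ones 240) ip5 4), (sel (ones 240) ip5 5), (sel (ones 240) ip5 6)] = true := by decide +kernel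

theorem tl5 : Nat.beq (T.let 5).tt 0 = true := by decide +kernel

theorem rot6_1 : T.rot 6 [3] (sel (ones 240) ip6 1) = true := by decide +kernel

theorem rot6_1r : band (Rule.ok (2 * 0) EX RL ⟨6 :: [3], [], 7, false⟩) (lall (memL L) [3]) = true := by decide +kernel

theorem rot6_2 : T.rot 6 [6] (sel (ones 240) ip6 2) = true := by decide +kernel

theorem rot6_2r : band (Rule.ok (2 * 0) EX RL ⟨6 :: [6], [], 6, false⟩) (lall (memL L) [6]) = true := by decide +kernel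

theorem rot6_3 : T.rot 6 [4, 6, 1] (sel (ones 240) ip6 3) = true := by decide +kernel

theorem rot6_3r : band (Rule.ok (2 * 0) EX RL ⟨6 :: [4, 6, 1], [], 4, false⟩) (lall (memL L) [4, 6, 1]) = true := by decide +kernel

theorem rot6_4 : T.rot 6 [1, 6, 4] (sel (ones 240) ip6 4) = true := by decide +kernel

theorem rot6_4r : band (Rule.ok (2 * 0) EX RL ⟨6 :: [1, 6, 4], [0, 5], 4, false⟩) (lall (memL L) [1, 6, 4]) = true := by decide +kernel

theorem rot6_5 : T.rot 6 [2, 6, 5] (sel (ones 240) ip6 5) = true := by decide +kernel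

theorem rot6_5r : band (Rule.ok (2 * 0) EX RL ⟨6 :: [2, 6, 5], [2, 5], 5, false⟩) (lall (memL L) [2, 6, 5]) = true := by decide +kernel

theorem cov6 : T.cover 6 [(sel (ones 240) ip6 1), (sel (ones 240) ip6 2), (sel (ones 240) ip6 3), (sel (ones 240) ip6 4), (sel (ones 240) ip6 5)] = true := by decide +kernel

theorem tl6 : Nat.beq (T.let 6).tt 0 = true := by decide +kernel

end Cfsg.Agent.Spor.HNb
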